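import Mathlib.AlgebraicGeometry.Pullbacks
import Mathlib.AlgebraicGeometry.Morphisms.FinitePresentation
import Mathlib.RingTheory.TensorProduct.Maps

/-! # Separating a closed set from a fibre at a finitely presented stage -/

set_option autoImplicit false
set_option linter.style.haveILetI false
set_option backward.isDefEq.respectTransparency false
set_option backward.isDefEq.respectTransparency.types false

universe u

open CategoryTheory CategoryTheory.Limits AlgebraicGeometry TensorProduct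

namespace Groth.Agent.H8.SepClosed.Alg

section Ring

variable {B C A : Type u} [CommRing B] [CommRing C] [CommRing A] [Algebra B C] [Algebra B A]

theorem exists_support (y : C ⊗[B] A) :
    ∃ F : Finset A, ∀ (A' : Type u) [CommRing A'] [Algebra B A'] (φ : A' →ₐ[B] A),
      (↑F : Set A) ⊆ Set.range φ →
        y ∈ Set.range (Algebra.TensorProduct.map (AlgHom.id B C) φ) := by
  classical
  induction y with
  | zero => exact ⟨∅, fun A' _ _ φ _ => ⟨0, map_zero _⟩⟩
  | tmul c a =>
    refine ⟨{a}, fun A' _ _ φ h => ?_⟩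
    obtain ⟨a', ha⟩ := h (by simp : a ∈ (↑({a} : Finset A) : Set A))
    exact ⟨c ⊗ₜ a', by simp [ha]⟩
  | add x y hx hy =>
    obtain ⟨F, hF⟩ := hx
    obtain ⟨G, hG⟩ := hy
    refine ⟨F ∪ G, fun A' _ _ φ h => ?_⟩
    obtain ⟨x', hx'⟩ := hF A' φ (Set.Subset.trans (by simp) h)
    obtain ⟨y', hy'⟩ := hG A' φ (Set.Subset.trans (by simp) h)
    exact ⟨x' + y', by rw [map_add, hx', hy']⟩

open Algebra.TensorProduct in
/-- A closed set avoiding a fibre avoids it after descending finitely many elements. -/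
theorem exists_finset {T : Set (PrimeSpectrum (C ⊗[B] A))} (hT : IsClosed T) (v : PrimeSpectrum A)
    (h : ∀ x ∈ T, PrimeSpectrum.comap (includeRight : A →ₐ[B] C ⊗[B] A).toRingHom x ≠ v) :
    ∃ s : Finset A, ∀ (A' : Type u) [CommRing A'] [Algebra B A'] (φ : A' →ₐ[B] A),
      (↑s : Set A) ⊆ Set.range φ →
        ∀ r ∈ closure (PrimeSpectrum.comap (Algebra.TensorProduct.map (AlgHom.id B C) φ).toRingHom '' T),
          PrimeSpectrum.comap (includeRight : A' →ₐ[B] C ⊗[B] A').toRingHom r ≠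
            PrimeSpectrum.comap φ.toRingHom v := by
  classical
  obtain ⟨I, rfl⟩ := (PrimeSpectrum.isClosed_iff_zeroLocus_ideal T).1 hT
  let iR := (includeRight : A →ₐ[B] C ⊗[B] A).toRingHom
  let Sm : Submonoid (C ⊗[B] A) := v.asIdeal.primeCompl.map (iR : A →* C ⊗[B] A)
  have hne : ¬ Disjoint ((I ⊔ v.asIdeal.map iR : Ideal (C ⊗[B] A)) : Set (C ⊗[B] A)) Sm := fun hd => by
    obtain ⟨q, hq, hle, hdis⟩ := Ideal.exists_le_prime_disjoint _ Sm hd
    refine h ⟨q, hq⟩ (le_sup_left.trans hle) (PrimeSpectrum.ext (le_antisymm (fun a ha => ?_)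
      (fun a ha => hle (Ideal.mem_sup_right (Ideal.mem_map_of_mem iR ha)))))
    by_contra hna
    exact Set.disjoint_left.1 hdis ha ⟨a, hna, rfl⟩
  obtain ⟨y, hy, a₀, ha₀, rfl⟩ := Set.not_disjoint_iff.1 hne
  obtain ⟨j, hj, m, hm, hjm⟩ := Submodule.mem_sup.1 hy
  rw [Ideal.map, Submodule.mem_span_image_iff_exists_fun] at hm
  obtain ⟨t, ht, c, hc⟩ := hm
  choose F hF using fun p => exists_support (c p)
  refine ⟨insert a₀ (t ∪ Finset.univ.biUnion F), fun A' _ _ φ hs r hr heq => ?_⟩
  obtain ⟨a', ha'⟩ := hs (by simp : a₀ ∈ _)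
  choose p' hp' using fun p : t => hs (by simp : (p : A) ∈ _)
  choose c' hc' using fun p : t => hF p A' φ (Set.Subset.trans (fun x hx => by
    simp only [Finset.coe_insert, Set.mem_insert_iff, Finset.coe_union, Set.mem_union,
      Finset.coe_biUnion, Finset.coe_univ, Set.mem_iUnion]
    exact Or.inr (Or.inr ⟨p, trivial, hx⟩)) hs)
  let iR' := (includeRight : A' →ₐ[B] C ⊗[B] A').toRingHom
  let ψ := (Algebra.TensorProduct.map (AlgHom.id B C) φ).toRingHom
  have hψR : ∀ z, ψ (iR' z) = iR (φ z) := fun z => by simp [ψ, iR', iR]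
  let j' := iR' a' - ∑ p : t, c' p * iR' (p' p)
  have hj' : ψ j' = j := by
    rw [map_sub, map_sum, hψR, ha']
    refine sub_eq_iff_eq_add.2 ?_
    rw [show iR a₀ = j + m from hjm.symm, ← hc]
    refine congrArg (j + ·) (Finset.sum_congr rfl fun p _ => ?_)
    rw [map_mul, hψR, hp', smul_eq_mul]
    exact congrArg (· * iR p.1) (hc' p).symm
  have hmem : j' ∈ r.asIdeal := by
    have hsub : closure (PrimeSpectrum.comap ψ '' PrimeSpectrum.zeroLocus (I : Set (C ⊗[B] A))) ⊆
        PrimeSpectrum.zeroLocus {j'} := by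
      refine closure_minimal ?_ (PrimeSpectrum.isClosed_zeroLocus _)
      rintro _ ⟨q, hq, rfl⟩ z rfl
      show ψ j' ∈ q.asIdeal
      rw [hj']
      exact hq hj
    exact hsub hr rfl
  have heq' : ∀ z, iR' z ∈ r.asIdeal ↔ φ z ∈ v.asIdeal := fun z => by
    have := congrArg (fun P : PrimeSpectrum A' => z ∈ P.asIdeal) heq
    exact Iff.of_eq this
  refine ha₀ ?_
  rw [SetLike.mem_coe, ← ha', ← heq']
  have hsum : ∑ p : t, c' p * iR' (p' p) ∈ r.asIdeal :=
    Ideal.sum_mem _ fun p _ => Ideal.mul_mem_left _ _ ((heq' _).2 (by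
      rw [hp']; exact ht p.2))
  have := r.asIdeal.add_mem hmem hsum
  simpa [j'] using this

end Ring

end Groth.Agent.H8.SepClosed.Alg
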