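import Groth.Agent.H8.SepClosed.Sch
import Groth.Agent.H8.AffineEmb.Main

/-! # Separating a closed set of points from a fibre, for algebraic spaces -/

set_option autoImplicit false
set_option linter.style.haveILetI false
set_option backward.isDefEq.respectTransparency false
set_option backward.isDefEq.respectTransparency.types false

universe u

open CategoryTheory CategoryTheory.Limits AlgebraicGeometry
open AlgSp (Sp yon RepWith IsAlgSpace Points)
open Groth.Agent.Lib Groth.Agent.Lib.AlgSpace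

namespace Groth.Agent.H8.SepClosed.Main

variable {S : Scheme.{u}}

/-- Affine etale neighbourhood of a point. -/
theorem exists_affine_nhd {X : Sp S} (hX : IsAlgSpace X) (x : Points X) :
    ∃ (V : Over S) (b : (yon S).obj V ⟶ X) (v : ↥V.left),
      IsAffine V.left ∧ RepWith @Etale b ∧ Points.ofPt b v = x := by
  obtain ⟨V, b, hV, hb, h⟩ :=
    AffineEmb.Main.exists_affine_etale_cover hX (isCompact_singleton (x := x))
  obtain ⟨v, hv⟩ := h rfl
  exact ⟨V, b, v, hV, hb, hv⟩

/-- Points of a scheme are carried by `ofPt`. -/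
theorem map_schemeEquiv {X : Sp S} {T : Over S} (g : (yon S).obj T ⟶ X) (t : ↥T.left) :
    Points.map g (Points.schemeEquiv T t) = Points.ofPt g t :=
  (Points.ofPt_eq_map_ofScheme g t).symm

theorem ofPt_yon_map {T T' : Over S} (φ : T ⟶ T') (t : ↥T.left) :
    Points.ofPt ((yon S).map φ) t = Points.schemeEquiv T' (φ.left t) := by
  have h := AlgSpace.ofPt_yon_map_comp φ (𝟙 ((yon S).obj T')) t
  rw [Category.comp_id] at h
  exact h.trans (by rw [Points.ofPt_eq_map_ofScheme, Points.map_id]; rfl)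

/-- Separation at a finitely presented stage. -/
theorem exists_separation {X Y Z P : Sp S} (hX : IsAlgSpace X) (hY : IsAlgSpace Y)
    (hZ : IsAlgSpace Z) {f : X ⟶ Y} {g : Z ⟶ Y} (hf : AlgSp.IsQuasiCompactMor f) {p₁ : P ⟶ X}
    {p₂ : P ⟶ Z} (hP : IsPullback p₁ p₂ f g) (z : Points Z) {T : Set (Points P)} (hT : IsClosed T)
    (hz : z ∉ Points.map p₂ '' T) :
    ∃ (V : Over S) (_ : IsAffine V.left) (e : (yon S).obj V ⟶ Z) (_ : RepWith @Etale e) (v : ↥V.left)
      (_ : Points.map e (Points.schemeEquiv V v) = z)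
      (Z' : Over S) (_ : IsAffine Z'.left) (b : (yon S).obj Z' ⟶ Y)
      (_ : AlgSp.LocP @LocallyOfFinitePresentation b)
      (a : V ⟶ Z') (_ : (yon S).map a ≫ b = e ≫ g),
      ∀ (P' : Sp S) (q₁ : P' ⟶ X) (q₂ : P' ⟶ (yon S).obj Z'), IsPullback q₁ q₂ f b →
        ∃ T' : Set (Points P'), IsClosed T' ∧
          Points.schemeEquiv Z' (a.left v) ∉ Points.map q₂ '' T' ∧
          ∀ (PV : Sp S) (r₁ : PV ⟶ X) (r₂ : PV ⟶ (yon S).obj V), IsPullback r₁ r₂ f (e ≫ g) →
            ∀ (κ₁ : PV ⟶ P) (κ₂ : PV ⟶ P'), κ₁ ≫ p₁ = r₁ → κ₁ ≫ p₂ = r₂ ≫ e → κ₂ ≫ q₁ = r₁ →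
              κ₂ ≫ q₂ = r₂ ≫ (yon S).map a →
              ∀ w : Points PV, Points.map κ₁ w ∈ T → Points.map κ₂ w ∈ T' := by
  obtain ⟨W, b₀, w₀, hW, hb₀, hw₀⟩ := exists_affine_nhd hY (Points.map g z)
  obtain ⟨V₀, e₀, v₀, -, he₀, hv₀⟩ := exists_affine_nhd hZ z
  obtain ⟨R, p, q, sqR⟩ := exists_isPullback_yon hY.diag (e₀ ≫ g) b₀
  obtain ⟨r, hr, -⟩ := (ofPt_eq_ofPt_iff_of_isPullback sqR v₀ w₀).1
    (by rw [hw₀, ← hv₀, Points.map_ofPt])
  obtain ⟨O, hO, hrO, -⟩ := exists_isAffineOpen_mem_and_subset (X := R.left) (U := ⊤) (Set.mem_univ r)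
  let V : Over S := AlgSpMor.Topo.opensOver O
  let a₀ : V ⟶ W := AlgSpMor.Topo.opensOverι O ≫ q
  obtain ⟨e, he_def⟩ : ∃ e : (yon S).obj V ⟶ Z,
      e = (yon S).map (AlgSpMor.Topo.opensOverι O ≫ p) ≫ e₀ := ⟨_, rfl⟩
  haveI hV : IsAffine V.left := hO
  haveI := hW
  haveI : Etale p.left := repWith_property hb₀ sqR.flip
  haveI : Etale (AlgSpMor.Topo.opensOverι O ≫ p).left :=
    inferInstanceAs (Etale (O.ι ≫ p.left))
  have he : RepWith @Etale e := he_def ▸ repWith_comp (repWith_etale_yon_map inferInstance) he₀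
  let v : ↥V.left := ⟨r, hrO⟩
  have hev : Points.ofPt e v = z := by
    rw [he_def, ofPt_yon_map_comp, show (AlgSpMor.Topo.opensOverι O ≫ p).left v = p.left r from rfl, hr, hv₀]
  have heb : (yon S).map a₀ ≫ b₀ = e ≫ g := by
    simp only [a₀, he_def, Functor.map_comp, Category.assoc]
    rw [sqR.w]
  let XW := pullback f b₀
  have sqX : IsPullback (pullback.fst f b₀) (pullback.snd f b₀) f b₀ := IsPullback.of_hasPullback f b₀
  haveI : CompactSpace ↥W.left := inferInstance
  haveI := AlgSpMor.QC.compactSpace_of_isQuasiCompactMor hf sqX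
  have hXW : IsAlgSpace XW := isAlgSpace_of_isPullback sqX hY.diag hX (IsAlgSpace.yon_obj W)
  obtain ⟨Q, π, hQ, hπ, hπs⟩ := AlgSpMor.QC.exists_affine_atlas hXW
  haveI := hQ
  obtain ⟨gQ, hgQ⟩ := (yon S).map_surjective (π ≫ pullback.snd f b₀)
  let QV := pullback gQ a₀
  have sqQ : IsPullback (pullback.fst gQ a₀) (pullback.snd gQ a₀) gQ a₀ := IsPullback.of_hasPullback gQ a₀
  let π₁ : (yon S).obj QV ⟶ X := (yon S).map (pullback.fst gQ a₀) ≫ π ≫ pullback.fst f b₀
  have hπ₁ : π₁ ≫ f = (yon S).map (pullback.snd gQ a₀) ≫ e ≫ g := by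
    rw [← heb, ← Category.assoc ((yon S).map _) ((yon S).map a₀), ← Functor.map_comp, ← sqQ.w,
      Functor.map_comp, hgQ]
    simp only [π₁, Category.assoc, sqX.w]
  let κ : (yon S).obj QV ⟶ P :=
    hP.lift π₁ ((yon S).map (pullback.snd gQ a₀) ≫ e) (by rw [hπ₁, Category.assoc])
  let TQ : Set ↥QV.left := Points.ofPt κ ⁻¹' T
  have hTQ : IsClosed TQ := hT.preimage (Points.continuous_ofPt κ)
  have hfib : ∀ x ∈ TQ, (pullback.snd gQ a₀).left x ≠ v := fun x hx hxv => hz ⟨_, hx, by
    rw [Points.map_ofPt]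
    refine (congrArg (fun g' => Points.ofPt g' x) (hP.lift_snd _ _ _)).trans ?_
    rw [ofPt_yon_map_comp, hxv, hev]⟩
  obtain ⟨Z₁, a', c', hZ₁, hc', hac, hsep⟩ := Sch.exists_stage gQ.left a₀.left
    (sqQ.map (Over.forget S)) hTQ v hfib
  let Z' : Over S := Over.mk (c' ≫ W.hom)
  let c : Z' ⟶ W := Over.homMk c' rfl
  let a : V ⟶ Z' := Over.homMk a' (by
    show a' ≫ c' ≫ W.hom = V.hom
    rw [reassoc_of% hac, Over.w])
  have hac' : a ≫ c = a₀ := Over.OverMorphism.ext hac
  haveI : LocallyOfFinitePresentation c.left := hc'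
  let b : (yon S).obj Z' ⟶ Y := (yon S).map c ≫ b₀
  have hb : AlgSp.LocP @LocallyOfFinitePresentation b :=
    AlgSpMor.LocP.locP_of_repWith SourceDescent.Scheme.locallyOfFinitePresentation
      (repWith_comp ((AlgSp.repWith_yon_map_iff _ c).2 hc')
        (repWith_mono hb₀ fun _ _ g (_ : Etale g) ↦ (inferInstance : LocallyOfFinitePresentation g)))
  have hab : (yon S).map a ≫ b = e ≫ g := by
    rw [← heb, ← hac', Functor.map_comp, Category.assoc]
  refine ⟨V, hV, e, he, v, (map_schemeEquiv e v).trans hev, Z', hZ₁, b, hb, a, hab,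
    fun P' q₁ q₂ sqP => ?_⟩
  let QZ := pullback gQ c
  have sqZ : IsPullback (pullback.fst gQ c) (pullback.snd gQ c) gQ c := IsPullback.of_hasPullback gQ c
  have sqP0 : IsPullback (sqX.lift q₁ (q₂ ≫ (yon S).map c) (by rw [sqP.w, Category.assoc])) q₂
      (pullback.snd f b₀) ((yon S).map c) :=
    IsPullback.of_right (h₁₂ := pullback.fst f b₀) (v₁₃ := f) (h₂₂ := b₀)
      (by rw [sqX.lift_fst]; exact sqP) (sqX.lift_snd _ _ _) sqX
  let μ : (yon S).obj QZ ⟶ P' := sqP0.lift ((yon S).map (pullback.fst gQ c) ≫ π)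
    ((yon S).map (pullback.snd gQ c)) (by
      rw [Category.assoc, ← hgQ, ← Functor.map_comp, sqZ.w, Functor.map_comp])
  have sqμ : IsPullback ((yon S).map (pullback.fst gQ c)) μ π
      (sqX.lift q₁ (q₂ ≫ (yon S).map c) (by rw [sqP.w, Category.assoc])) :=
    IsPullback.of_bot (v₂₁ := q₂) (h₃₁ := (yon S).map c) (v₂₂ := pullback.snd f b₀)
      (by rw [sqP0.lift_snd, ← hgQ]; exact sqZ.map (yon S)) (sqP0.lift_fst _ _ _).symm sqP0
  have hμ : RepWith @Etale μ := repWith_baseChange sqμ hπ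
  have hμs : RepWith @Surjective μ := repWith_baseChange sqμ hπs
  have hμo : IsOpenMap (Points.ofPt μ) := isOpenMap_ofPt hμ
  let m : QV ⟶ QZ := pullback.lift (pullback.fst gQ a₀) (pullback.snd gQ a₀ ≫ a)
    (by rw [Category.assoc, hac', pullback.condition])
  let T' : Set (Points P') := closure (Points.ofPt μ '' (m.left '' TQ))
  have hsat : Points.ofPt μ ⁻¹' (Points.ofPt μ '' (m.left '' TQ)) ⊆ m.left '' TQ := by
    rintro y ⟨_, ⟨t, ht, rfl⟩, hty⟩
    let PV := pullback f (e ≫ g)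
    have sqV : IsPullback (pullback.fst f (e ≫ g)) (pullback.snd f (e ≫ g)) f (e ≫ g) :=
      IsPullback.of_hasPullback _ _
    let κ₁ : PV ⟶ P := hP.lift (pullback.fst f (e ≫ g)) (pullback.snd f (e ≫ g) ≫ e)
      (by rw [Category.assoc]; exact sqV.w)
    let κ₂ : PV ⟶ P' := sqP.lift (pullback.fst f (e ≫ g)) (pullback.snd f (e ≫ g) ≫ (yon S).map a)
      (by rw [Category.assoc, hab]; exact sqV.w)
    have hμ₁ : μ ≫ q₁ = (yon S).map (pullback.fst gQ c) ≫ π ≫ pullback.fst f b₀ := by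
      rw [← sqX.lift_fst q₁ (q₂ ≫ (yon S).map c) (by rw [sqP.w, Category.assoc]),
        ← Category.assoc, sqP0.lift_fst, Category.assoc]
    have hμ₂ : μ ≫ q₂ = (yon S).map (pullback.snd gQ c) := sqP0.lift_snd _ _ _
    have hm₂ : m ≫ pullback.snd gQ c = pullback.snd gQ a₀ ≫ a := pullback.lift_snd _ _ _
    have hm₁ : m ≫ pullback.fst gQ c = pullback.fst gQ a₀ := pullback.lift_fst _ _ _
    let lam : (yon S).obj QV ⟶ PV := sqV.lift π₁ ((yon S).map (pullback.snd gQ a₀)) hπ₁
    have hl₁ : lam ≫ κ₁ = κ := hP.hom_ext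
      (by rw [Category.assoc, hP.lift_fst, sqV.lift_fst, hP.lift_fst])
      (by rw [Category.assoc, hP.lift_snd, ← Category.assoc, sqV.lift_snd, hP.lift_snd])
    have hl₂ : (yon S).map m ≫ μ = lam ≫ κ₂ := sqP.hom_ext
      (by rw [Category.assoc, hμ₁, Category.assoc, sqP.lift_fst, sqV.lift_fst, ← Category.assoc,
            ← Functor.map_comp, hm₁])
      (by rw [Category.assoc, hμ₂, Category.assoc, sqP.lift_snd, ← Category.assoc, sqV.lift_snd,
            ← Functor.map_comp, ← Functor.map_comp, hm₂])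
    have sqm : IsPullback ((yon S).map m) lam μ κ₂ := by
      refine isPullback_of_yon hl₂ (fun U x x' h1 h2 => ?_) fun U x x' w => ?_
      · obtain ⟨x, rfl⟩ := (yon S).map_surjective x
        obtain ⟨x', rfl⟩ := (yon S).map_surjective x'
        refine congrArg _ (pullback.hom_ext ?_ ?_)
        · have := (yon S).map_injective (show (yon S).map (x ≫ m) = (yon S).map (x' ≫ m) by
            rw [Functor.map_comp, Functor.map_comp]; exact h1)
          rw [← hm₁, ← Category.assoc, this, Category.assoc]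
        · have h3 := congrArg (· ≫ pullback.snd f (e ≫ g)) h2
          simp only [Category.assoc, lam, sqV.lift_snd, ← Functor.map_comp] at h3
          exact (yon S).map_injective h3
      · obtain ⟨x, rfl⟩ := (yon S).map_surjective x
        obtain ⟨s₂, hs₂⟩ := (yon S).map_surjective (x' ≫ pullback.snd f (e ≫ g))
        have w₂ : x ≫ pullback.snd gQ c = s₂ ≫ a := (yon S).map_injective (by
          have := congrArg (· ≫ q₂) w
          simp only [Category.assoc, hμ₂, κ₂, sqP.lift_snd] at this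
          rw [Functor.map_comp, this, ← Category.assoc, ← hs₂, Functor.map_comp])
        have w₁ : (x ≫ pullback.fst gQ c) ≫ gQ = s₂ ≫ a₀ := by
          rw [Category.assoc, pullback.condition, ← Category.assoc, w₂, Category.assoc, hac']
        refine ⟨(yon S).map (pullback.lift (x ≫ pullback.fst gQ c) s₂ w₁), ?_, ?_⟩
        · rw [← Functor.map_comp]
          refine congrArg _ (pullback.hom_ext ?_ ?_)
          · rw [Category.assoc, hm₁, pullback.lift_fst]
          · rw [Category.assoc, hm₂, ← Category.assoc, pullback.lift_snd, w₂]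
        · refine sqV.hom_ext ?_ ?_
          · have := congrArg (· ≫ q₁) w
            simp only [Category.assoc, hμ₁, κ₂, sqP.lift_fst] at this
            rw [Category.assoc, sqV.lift_fst, ← Category.assoc, ← Functor.map_comp, pullback.lift_fst,
              Functor.map_comp, Category.assoc]
            exact this
          · rw [Category.assoc, sqV.lift_snd, ← Functor.map_comp, pullback.lift_snd, hs₂]
    have hy : Points.map μ (Points.schemeEquiv QZ y) = Points.map κ₂ (Points.ofPt lam t) := by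
      rw [map_schemeEquiv, ← hty, ← ofPt_yon_map_comp, hl₂, Points.map_ofPt]
    obtain ⟨t', ht₁, ht₂⟩ := exists_of_isPullback sqm (Points.schemeEquiv QZ y) (Points.ofPt lam t) hy
    obtain ⟨t', rfl⟩ := (Points.schemeEquiv QV).surjective t'
    rw [map_schemeEquiv, ofPt_yon_map] at ht₁
    rw [map_schemeEquiv] at ht₂
    refine ⟨t', ?_, (Points.schemeEquiv QZ).injective ht₁⟩
    show Points.ofPt κ t' ∈ T
    rw [← hl₁, ← Points.map_ofPt, ht₂, Points.map_ofPt, hl₁]
    exact ht
  refine ⟨T', isClosed_closure, ?_, fun PV r₁ r₂ sqV κ₁ κ₂ h₁ h₂ h₃ h₄ w hw => ?_⟩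
  · rintro ⟨x', hx', hx'v⟩
    obtain ⟨y, rfl⟩ := surjective_ofPt hμs x'
    have hy : y ∈ closure (m.left '' TQ) := by
      have h1 : y ∈ closure (Points.ofPt μ ⁻¹' (Points.ofPt μ '' (m.left '' TQ))) := by
        rw [← hμo.preimage_closure_eq_closure_preimage (Points.continuous_ofPt μ)]
        exact hx'
      exact closure_mono hsat h1
    refine hsep _ _ _ (sqZ.map (Over.forget S)) m.left ?_ ?_ y hy ?_
    · exact congrArg CommaMorphism.left (pullback.lift_fst (f := gQ) (g := c) _ _ _)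
    · exact congrArg CommaMorphism.left (pullback.lift_snd (f := gQ) (g := c) _ _ _)
    · rw [Points.map_ofPt, show μ ≫ q₂ = _ from sqP0.lift_snd _ _ _, ofPt_yon_map] at hx'v
      exact (Points.schemeEquiv Z').injective hx'v
  · have hr₁ : π₁ ≫ f = (yon S).map (pullback.snd gQ a₀) ≫ e ≫ g := hπ₁
    let lam : (yon S).obj QV ⟶ PV := sqV.lift π₁ ((yon S).map (pullback.snd gQ a₀)) hr₁
    have sqPV : IsPullback (sqX.lift r₁ (r₂ ≫ (yon S).map a₀)
        (by rw [sqV.w, Category.assoc, heb])) r₂ (pullback.snd f b₀) ((yon S).map a₀) :=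
      IsPullback.of_right (h₁₂ := pullback.fst f b₀) (v₁₃ := f) (h₂₂ := b₀)
        (by rw [sqX.lift_fst, heb]; exact sqV) (sqX.lift_snd _ _ _) sqX
    have sql : IsPullback ((yon S).map (pullback.fst gQ a₀)) lam π
        (sqX.lift r₁ (r₂ ≫ (yon S).map a₀) (by rw [sqV.w, Category.assoc, heb])) :=
      IsPullback.of_bot (v₂₁ := r₂) (h₃₁ := (yon S).map a₀) (v₂₂ := pullback.snd f b₀)
        (by rw [sqV.lift_snd, ← hgQ]; exact sqQ.map (yon S))
        (sqX.hom_ext
          (by rw [Category.assoc, Category.assoc, sqX.lift_fst, sqV.lift_fst])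
          (by rw [Category.assoc, Category.assoc, sqX.lift_snd, ← hgQ, ← Category.assoc lam,
                sqV.lift_snd, ← Functor.map_comp, ← Functor.map_comp, sqQ.w]))
        sqPV
    obtain ⟨t, rfl⟩ := surjective_ofPt (repWith_baseChange sql hπs) w
    have hl₁ : lam ≫ κ₁ = κ := hP.hom_ext
      (by rw [Category.assoc, h₁, sqV.lift_fst, hP.lift_fst])
      (by rw [Category.assoc, h₂, ← Category.assoc, sqV.lift_snd, hP.lift_snd])
    have hl₂ : (yon S).map m ≫ μ = lam ≫ κ₂ := sqP.hom_ext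
      (by rw [Category.assoc, Category.assoc, h₃, sqV.lift_fst,
            ← sqX.lift_fst q₁ (q₂ ≫ (yon S).map c) (by rw [sqP.w, Category.assoc]),
            ← Category.assoc μ, sqP0.lift_fst, Category.assoc, ← Category.assoc,
            ← Functor.map_comp, pullback.lift_fst])
      (by rw [Category.assoc, show μ ≫ q₂ = _ from sqP0.lift_snd _ _ _, Category.assoc, h₄,
            ← Category.assoc, sqV.lift_snd, ← Functor.map_comp, ← Functor.map_comp, pullback.lift_snd])
    rw [Points.map_ofPt, hl₁] at hw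
    rw [Points.map_ofPt, ← hl₂, ofPt_yon_map_comp]
    exact subset_closure ⟨_, ⟨t, hw, rfl⟩, rfl⟩

end Groth.Agent.H8.SepClosed.Main
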