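import Groth.Agent.H8.SepClosed.Alg
import Mathlib.AlgebraicGeometry.Morphisms.Affine

/-! # Separating a closed set from a fibre, for affine schemes -/

set_option autoImplicit false
set_option linter.style.haveILetI false
set_option backward.isDefEq.respectTransparency false
set_option backward.isDefEq.respectTransparency.types false

universe u

open CategoryTheory CategoryTheory.Limits AlgebraicGeometry TensorProduct

namespace Groth.Agent.H8.SepClosed.Sch

/-- The version for spectra. -/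
theorem exists_stage_spec {B C A : CommRingCat.{u}} (β : B ⟶ C) (α : B ⟶ A) {PV : Scheme.{u}}
    {f₁ : PV ⟶ Spec C} {f₂ : PV ⟶ Spec A} (sq : IsPullback f₁ f₂ (Spec.map β) (Spec.map α))
    {T : Set PV} (hT : IsClosed T) (v : Spec A) (h : ∀ x ∈ T, f₂ x ≠ v) :
    ∃ (Z' : Scheme.{u}) (a : Spec A ⟶ Z') (c : Z' ⟶ Spec B),
      IsAffine Z' ∧ LocallyOfFinitePresentation c ∧ a ≫ c = Spec.map α ∧
        ∀ (PZ : Scheme.{u}) (g₁ : PZ ⟶ Spec C) (g₂ : PZ ⟶ Z') (_ : IsPullback g₁ g₂ (Spec.map β) c)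
          (m : PV ⟶ PZ), m ≫ g₁ = f₁ → m ≫ g₂ = f₂ ≫ a → ∀ r ∈ closure (m '' T), g₂ r ≠ a v := by
  letI := β.hom.toAlgebra
  letI := α.hom.toAlgebra
  let e : PV ≅ Spec (.of ((C : Type u) ⊗[(B : Type u)] (A : Type u))) :=
    sq.isoPullback ≪≫ pullbackSpecIso B C A
  have he₂ : e.hom ≫ Spec.map (CommRingCat.ofHom (Algebra.TensorProduct.includeRight :
      (A : Type u) →ₐ[(B : Type u)] (C : Type u) ⊗[(B : Type u)] (A : Type u)).toRingHom) = f₂ := by
    refine Eq.trans (Category.assoc _ _ _) (Eq.trans ?_ sq.isoPullback_hom_snd)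
    exact congrArg (sq.isoPullback.hom ≫ ·) (pullbackSpecIso_hom_snd B C A)
  obtain ⟨s, hs⟩ := Alg.exists_finset (B := B) (C := C) (A := A)
    (T := e.inv ⁻¹' T) (hT.preimage e.inv.continuous) v (fun x hx hxv => h _ hx (by
      rw [← he₂]
      rw [← hxv]
      show (e.inv ≫ e.hom ≫ Spec.map _) x = _
      rw [Iso.inv_hom_id_assoc]
      rfl))
  let M := MvPolynomial {x : A // x ∈ s} B
  let φ : M →ₐ[(B : Type u)] (A : Type u) := MvPolynomial.aeval fun x => x.1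
  refine ⟨Spec (.of M), Spec.map (CommRingCat.ofHom φ.toRingHom),
    Spec.map (CommRingCat.ofHom (algebraMap B M)), inferInstance, ?_, ?_, ?_⟩
  · exact (HasRingHomProperty.Spec_iff (P := @LocallyOfFinitePresentation)).2
      (RingHom.finitePresentation_algebraMap.2 inferInstance)
  · rw [← Spec.map_comp]
    exact congrArg Spec.map (CommRingCat.hom_ext (RingHom.ext fun b => φ.commutes b))
  intro PZ g₁ g₂ sq' m hm₁ hm₂ r hr hrv
  let e' : PZ ≅ Spec (.of ((C : Type u) ⊗[(B : Type u)] M)) :=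
    sq'.isoPullback ≪≫ pullbackSpecIso B C M
  have he'₁ : e'.hom ≫ Spec.map (CommRingCat.ofHom (Algebra.TensorProduct.includeLeftRingHom :
      (C : Type u) →+* (C : Type u) ⊗[(B : Type u)] M)) = g₁ := by
    refine Eq.trans (Category.assoc _ _ _) (Eq.trans ?_ sq'.isoPullback_hom_fst)
    exact congrArg (sq'.isoPullback.hom ≫ ·) (pullbackSpecIso_hom_fst B C M)
  have he'₂ : e'.hom ≫ Spec.map (CommRingCat.ofHom (Algebra.TensorProduct.includeRight :
      M →ₐ[(B : Type u)] (C : Type u) ⊗[(B : Type u)] M).toRingHom) = g₂ := by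
    refine Eq.trans (Category.assoc _ _ _) (Eq.trans ?_ sq'.isoPullback_hom_snd)
    exact congrArg (sq'.isoPullback.hom ≫ ·) (pullbackSpecIso_hom_snd B C M)
  have he₁ : e.hom ≫ Spec.map (CommRingCat.ofHom (Algebra.TensorProduct.includeLeftRingHom :
      (C : Type u) →+* (C : Type u) ⊗[(B : Type u)] (A : Type u))) = f₁ := by
    refine Eq.trans (Category.assoc _ _ _) (Eq.trans ?_ sq.isoPullback_hom_fst)
    exact congrArg (sq.isoPullback.hom ≫ ·) (pullbackSpecIso_hom_fst B C A)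
  let ψ := (Algebra.TensorProduct.map (AlgHom.id (B : Type u) (C : Type u)) φ).toRingHom
  have hm : e.inv ≫ m ≫ e'.hom = Spec.map (CommRingCat.ofHom ψ) := by
    rw [← cancel_mono (pullbackSpecIso B C M).inv]
    apply pullback.hom_ext
    · simp only [Category.assoc, pullbackSpecIso_inv_fst, he'₁, hm₁]
      rw [Iso.inv_comp_eq, ← he₁, ← Spec.map_comp]
      refine congrArg (e.hom ≫ ·) (congrArg Spec.map (CommRingCat.hom_ext (RingHom.ext fun x => ?_)))
      simp [ψ]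
    · simp only [Category.assoc, pullbackSpecIso_inv_snd]
      erw [he'₂]
      rw [hm₂, Iso.inv_comp_eq, ← he₂, Category.assoc, ← Spec.map_comp, ← Spec.map_comp]
      refine congrArg (e.hom ≫ ·) (congrArg Spec.map (CommRingCat.hom_ext (RingHom.ext fun x => ?_)))
      simp [ψ]
  refine hs M φ (fun x hx => ⟨MvPolynomial.X ⟨x, hx⟩, MvPolynomial.aeval_X _ _⟩) (e'.hom r) ?_ ?_
  · refine closure_mono ?_ (image_closure_subset_closure_image e'.hom.continuous ⟨r, hr, rfl⟩)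
    rintro _ ⟨_, ⟨t, ht, rfl⟩, rfl⟩
    refine ⟨e.hom t, ?_, ?_⟩
    · show (e.hom ≫ e.inv) t ∈ T
      rw [Iso.hom_inv_id]
      exact ht
    · show (e.hom ≫ Spec.map (CommRingCat.ofHom ψ)) t = (m ≫ e'.hom) t
      rw [← hm, Iso.hom_inv_id_assoc]
  · rw [← he'₂] at hrv
    exact hrv

/-- The version for affine schemes. -/
theorem exists_stage {Q V W PV : Scheme.{u}} [IsAffine Q] [IsAffine V] [IsAffine W] (gQ : Q ⟶ W)
    (gV : V ⟶ W) {f₁ : PV ⟶ Q} {f₂ : PV ⟶ V} (sq : IsPullback f₁ f₂ gQ gV)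
    {T : Set PV} (hT : IsClosed T) (v : V) (h : ∀ x ∈ T, f₂ x ≠ v) :
    ∃ (Z' : Scheme.{u}) (a : V ⟶ Z') (c : Z' ⟶ W),
      IsAffine Z' ∧ LocallyOfFinitePresentation c ∧ a ≫ c = gV ∧
        ∀ (PZ : Scheme.{u}) (g₁ : PZ ⟶ Q) (g₂ : PZ ⟶ Z') (_ : IsPullback g₁ g₂ gQ c)
          (m : PV ⟶ PZ), m ≫ g₁ = f₁ → m ≫ g₂ = f₂ ≫ a → ∀ r ∈ closure (m '' T), g₂ r ≠ a v := by
  have sq' : IsPullback (f₁ ≫ Q.isoSpec.hom) (f₂ ≫ V.isoSpec.hom) (Spec.map gQ.appTop)
      (Spec.map gV.appTop) := sq.of_iso (Iso.refl _) Q.isoSpec V.isoSpec W.isoSpec (by simp) (by simp)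
      (Scheme.isoSpec_hom_naturality gQ).symm (Scheme.isoSpec_hom_naturality gV).symm
  obtain ⟨Z', a, c, hZ, hc, hac, hsep⟩ := exists_stage_spec gQ.appTop gV.appTop sq' hT
    (V.isoSpec.hom v) fun x hx hxv => h x hx (by
      exact V.isoSpec.hom.isOpenEmbedding.injective (((Scheme.Hom.comp_apply f₂ _ x).symm).trans hxv))
  refine ⟨Z', V.isoSpec.hom ≫ a, c ≫ W.isoSpec.inv, hZ, inferInstance, ?_, ?_⟩
  · rw [Category.assoc, reassoc_of% hac, Scheme.isoSpec_hom_naturality_assoc, Iso.hom_inv_id,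
      Category.comp_id]
  intro PZ g₁ g₂ sqZ m hm₁ hm₂ r hr
  have sqZ' : IsPullback (g₁ ≫ Q.isoSpec.hom) g₂ (Spec.map gQ.appTop) c :=
    sqZ.of_iso (Iso.refl _) Q.isoSpec (Iso.refl _) W.isoSpec (by simp) (by simp)
      (Scheme.isoSpec_hom_naturality gQ).symm (by simp)
  exact hsep PZ _ g₂ sqZ' m (by rw [← Category.assoc, hm₁]) (by rw [hm₂, Category.assoc]) r hr

end Groth.Agent.H8.SepClosed.Sch
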